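import Cfsg.Agent.H31.BR.PolInst

/-!
# S4829 : the group of automorphisms acts on the totally singular subspaces (helper215)

`Full Φ ρ π` : every automorphism of `S` is induced by a semisimilarity.
`Full.mulAction k` : the action of `MulAut S` on `Φ.X k`; `Full.conj_smul` : it extends the action of `S`;
`Full.typ_smul`, `Full.le_smul` : it preserves the types and the inclusions; `Full.orb` : it preserves the `S`-orbitals.
-/

set_option autoImplicit false

open Module Subgroup Cfsg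
open Cfsg.Agent.H2.Pol Cfsg.Agent.H674.BR Cfsg.Agent.H623.BR

namespace Cfsg.Agent.H215.CY

section Sub

variable {F V : Type*} [Field F] [AddCommGroup V] [Module F V] {Φ : Pol F V} {M N : V ≃+ V}

theorem sub_inf (hM : SemiAct Φ M) (A B : Submodule F V) : hM.sub (A ⊓ B) = hM.sub A ⊓ hM.sub B := by
  ext v
  constructor
  · rintro ⟨x, hx, rfl⟩
    exact ⟨⟨x, hx.1, rfl⟩, ⟨x, hx.2, rfl⟩⟩
  · rintro ⟨⟨x, hx, rfl⟩, h⟩
    exact ⟨x, ⟨hx, hM.mem_sub.1 h⟩, rfl⟩

theorem sub_mono (hM : SemiAct Φ M) {A B : Submodule F V} : hM.sub A ≤ hM.sub B ↔ A ≤ B := by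
  constructor
  · intro h x hx
    exact hM.mem_sub.1 (h (hM.mem_sub.2 hx))
  · rintro h _ ⟨x, hx, rfl⟩
    exact ⟨x, h hx, rfl⟩

theorem sub_perp (hM : SemiAct Φ M) (B : Submodule F V) : hM.sub (Φ.perp B) = Φ.perp (hM.sub B) := by
  ext v
  constructor
  · rintro ⟨x, hx, rfl⟩
    rintro _ ⟨y, hy, rfl⟩
    exact (hM.orth x y).2 (hx y hy)
  · intro h
    refine ⟨M.symm v, fun y hy => ?_, M.apply_symm_apply v⟩
    refine (hM.orth (M.symm v) y).1 ?_
    rw [M.apply_symm_apply]
    exact h (M y) ⟨y, hy, rfl⟩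

theorem typ_sub [FiniteDimensional F V] (hM : SemiAct Φ M) (A B : Submodule F V) :
    typ Φ (hM.sub A) (hM.sub B) = typ Φ A B := by
  unfold typ
  rw [← sub_perp, ← sub_inf, ← sub_inf, hM.finrank, hM.finrank]

theorem SemiAct.comp (hM : SemiAct Φ M) (hN : SemiAct Φ N) : SemiAct Φ (N.trans M) := by
  obtain ⟨σ, hσ⟩ := hM.smul
  obtain ⟨τ, hτ⟩ := hN.smul
  refine ⟨⟨τ.trans σ, fun a v => ?_⟩, fun v => ?_, fun x y => ?_⟩
  · show M (N (a • v)) = σ (τ a) • M (N v)
    rw [hτ, hσ]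
  · exact (hM.sing _).trans (hN.sing v)
  · exact (hM.orth _ _).trans (hN.orth x y)

theorem sub_comp (hM : SemiAct Φ M) (hN : SemiAct Φ N) (U : Submodule F V) :
    (SemiAct.comp hM hN).sub U = hM.sub (hN.sub U) := by
  ext v
  constructor
  · rintro ⟨x, hx, rfl⟩
    exact ⟨N x, ⟨x, hx, rfl⟩, rfl⟩
  · rintro ⟨_, ⟨x, hx, rfl⟩, rfl⟩
    exact ⟨x, hx, rfl⟩

theorem perm_comp [FiniteDimensional F V] (hM : SemiAct Φ M) (hN : SemiAct Φ N) (k : ℕ) (U : Φ.X k) :
    (SemiAct.comp hM hN).perm k U = hM.perm k (hN.perm k U) := Subtype.ext (sub_comp hM hN U.1)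

theorem perm_symm [FiniteDimensional F V] (hM : SemiAct Φ M) (k : ℕ) (U : Φ.X k) :
    hM.symm.perm k U = (hM.perm k).symm U := rfl

theorem perm_val [FiniteDimensional F V] (hM : SemiAct Φ M) (k : ℕ) (U : Φ.X k) : (hM.perm k U).1 = hM.sub U.1 := rfl

/-- a nonzero singular vector spans a point -/
theorem span_TI {x : V} (hx : Φ.sing x) (hx2 : Φ.L x x = 0) : Φ.TI (Submodule.span F {x}) := by
  refine ⟨?_, ?_⟩
  · intro v hv
    obtain ⟨a, rfl⟩ := Submodule.mem_span_singleton.1 hv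
    exact Φ.sing_smul a x hx
  · intro v hv w hw
    obtain ⟨a, rfl⟩ := Submodule.mem_span_singleton.1 hv
    obtain ⟨b, rfl⟩ := Submodule.mem_span_singleton.1 hw
    rw [map_smul]
    have h1 : Φ.L (b • x) x = 0 := Φ.refl _ _ (by rw [map_smul, hx2, smul_zero])
    rw [h1, smul_zero]

/-- the point of a nonzero singular vector -/
def pt (x : V) (h0 : x ≠ 0) (hx : Φ.sing x) (hx2 : Φ.L x x = 0) : Φ.X 1 :=
  ⟨Submodule.span F {x}, span_TI hx hx2, finrank_span_singleton h0⟩

/-- a semisimilarity which fixes all points fixes all totally singular subspaces -/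
theorem sub_eq_of_points [FiniteDimensional F V] (hM : SemiAct Φ M) (h : ∀ P : Φ.X 1, hM.perm 1 P = P)
    {U : Submodule F V} (hU : Φ.TI U) : hM.sub U = U := by
  refine Submodule.eq_of_le_of_finrank_eq ?_ (hM.finrank U)
  rintro _ ⟨x, hx, rfl⟩
  by_cases h0 : x = 0
  · rw [h0, map_zero]
    exact U.zero_mem
  · have h1 := congrArg Subtype.val (h (pt x h0 (hU.1 x hx) (hU.2 x hx x hx)))
    rw [perm_val] at h1
    have h2 : M x ∈ hM.sub (Submodule.span F {x}) := ⟨x, Submodule.mem_span_singleton_self x, rfl⟩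
    have h3 : M x ∈ Submodule.span F {x} := by
      have h4 : hM.sub (Submodule.span F {x}) = Submodule.span F {x} := h1
      rwa [h4] at h2
    exact (Submodule.span_singleton_le_iff_mem x U).2 hx h3

end Sub

section Pts

variable {F V : Type*} [Field F] [AddCommGroup V] [Module F V] [FiniteDimensional F V] (Φ : Pol F V)

/-- two different points `P`, `P'` : there is a third point of the same type -/
def Third : Prop := ∀ P P' : Φ.X 1, P' ≠ P → ∃ P'' : Φ.X 1, P'' ≠ P' ∧ typ Φ P''.1 P.1 = typ Φ P'.1 P.1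

variable {Φ}

theorem exists_gen (P : Φ.X 1) : ∃ (x : V) (h0 : x ≠ 0) (hx : Φ.sing x) (hx2 : Φ.L x x = 0), P = pt x h0 hx hx2 := by
  obtain ⟨x, h0, hx⟩ := finrank_eq_one_iff'.1 P.2.2
  have h1 : (x : V) ≠ 0 := fun h => h0 (Subtype.ext h)
  refine ⟨x, h1, P.2.1.1 x x.2, P.2.1.2 x x.2 x x.2, Subtype.ext ?_⟩
  refine le_antisymm ?_ ((Submodule.span_singleton_le_iff_mem _ _).2 x.2)
  intro v hv
  obtain ⟨c, hc⟩ := hx ⟨v, hv⟩
  exact Submodule.mem_span_singleton.2 ⟨c, congrArg Subtype.val hc⟩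

theorem inf_eq_bot_of_ne {P P' : Φ.X 1} (h : P' ≠ P) : P'.1 ⊓ P.1 = ⊥ := by
  by_contra h1
  apply h
  apply Subtype.ext
  have h2 : finrank F ↥(P'.1 ⊓ P.1) ≠ 0 := fun h3 => h1 (Submodule.finrank_eq_zero.1 h3)
  have h3 : finrank F ↥(P'.1 ⊓ P.1) ≤ 1 := (Submodule.finrank_mono inf_le_left).trans_eq P'.2.2
  have h4 : P'.1 ⊓ P.1 = P'.1 := Submodule.eq_of_le_of_finrank_eq inf_le_left (by rw [P'.2.2]; omega)
  have h5 : P'.1 ⊓ P.1 = P.1 := Submodule.eq_of_le_of_finrank_eq inf_le_right (by rw [P.2.2]; omega)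
  rw [← h4, h5]

theorem typ_of_orth {P P' : Φ.X 1} (h : P' ≠ P) (ho : Φ.Orth P'.1 P.1) : typ Φ P'.1 P.1 = (0, 1) := by
  unfold typ
  rw [inf_eq_bot_of_ne h, finrank_bot, inf_eq_left.2 (Φ.orth_iff_le_perp.1 ho), P'.2.2]

theorem typ_of_not_orth {P P' : Φ.X 1} (ho : ¬ Φ.Orth P'.1 P.1) : typ Φ P'.1 P.1 = (0, 0) := by
  have h : P' ≠ P := fun h => ho (h ▸ P.2.1.2)
  have h1 : P'.1 ⊓ Φ.perp P.1 = ⊥ := by
    by_contra h1
    apply ho
    rw [Φ.orth_iff_le_perp]
    have h2 : finrank F ↥(P'.1 ⊓ Φ.perp P.1) ≠ 0 := fun h3 => h1 (Submodule.finrank_eq_zero.1 h3)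
    have h3 : finrank F ↥(P'.1 ⊓ Φ.perp P.1) ≤ 1 := (Submodule.finrank_mono inf_le_left).trans_eq P'.2.2
    have h4 : P'.1 ⊓ Φ.perp P.1 = P'.1 := Submodule.eq_of_le_of_finrank_eq inf_le_left (by rw [P'.2.2]; omega)
    exact inf_eq_left.1 h4
  unfold typ
  rw [inf_eq_bot_of_ne h, h1, finrank_bot]

/-- rank at least two: every point lies on a totally singular line -/
theorem third_of_lines (hl : ∀ P : Φ.X 1, ∃ L : Φ.X 2, P.1 ≤ L.1) : Third Φ := by
  intro P P' hne
  obtain ⟨x, hx0, hxs, hxx, rfl⟩ := exists_gen P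
  obtain ⟨y, hy0, hys, hyy, rfl⟩ := exists_gen P'
  by_cases hxy : Φ.L x y = 0
  · -- collinear
    have hyx : Φ.L y x = 0 := Φ.refl _ _ hxy
    have hs : Φ.sing (x + y) := Φ.sing_add x y hxs hys hyx
    have hso : Φ.Orth (Submodule.span F {x} ⊔ Submodule.span F {y}) (Submodule.span F {x} ⊔ Submodule.span F {y}) := by
      have h1 : Φ.Orth (Submodule.span F {x}) (Submodule.span F {y}) := by
        intro v hv w hw
        obtain ⟨a, rfl⟩ := Submodule.mem_span_singleton.1 hv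
        obtain ⟨b, rfl⟩ := Submodule.mem_span_singleton.1 hw
        rw [map_smul]
        have h2 : Φ.L (b • y) x = 0 := Φ.refl _ _ (by rw [map_smul, hxy, smul_zero])
        rw [h2, smul_zero]
      have hx1 : Φ.Orth (Submodule.span F {x}) (Submodule.span F {x}) := (span_TI hxs hxx).2
      have hy1 : Φ.Orth (Submodule.span F {y}) (Submodule.span F {y}) := (span_TI hys hyy).2
      exact (hx1.sup_left h1.symm).sup_right (h1.sup_left hy1)
    have hmem : x + y ∈ Submodule.span F {x} ⊔ Submodule.span F {y} :=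
      Submodule.add_mem_sup (Submodule.mem_span_singleton_self x) (Submodule.mem_span_singleton_self y)
    have hne2 : ∀ c : F, y ≠ c • x := by
      intro c h
      apply hne
      apply Subtype.ext
      show Submodule.span F {y} = Submodule.span F {x}
      have hc : c ≠ 0 := fun hc => hy0 (by rw [h, hc, zero_smul])
      rw [h]
      exact Submodule.span_singleton_smul_eq (IsUnit.mk0 c hc) x
    have h0 : x + y ≠ 0 := fun h => hne2 (-1) (by rw [neg_one_smul, eq_neg_of_add_eq_zero_right h])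
    have hsl : Φ.L (x + y) (x + y) = 0 := hso _ hmem _ hmem
    have hn1 : pt (F := F) (x + y) h0 hs hsl ≠ pt y hy0 hys hyy := by
      intro h
      have h1 : Submodule.span F {x + y} = Submodule.span F {y} := congrArg Subtype.val h
      have h2 : x + y ∈ Submodule.span F {y} := h1 ▸ Submodule.mem_span_singleton_self _
      obtain ⟨c, hc⟩ := Submodule.mem_span_singleton.1 h2
      have h3 : x = (c - 1) • y := by rw [sub_smul, one_smul, hc, add_sub_cancel_right]
      have h4 : c - 1 ≠ 0 := fun h4 => hx0 (by rw [h3, h4, zero_smul])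
      exact hne2 (c - 1)⁻¹ (by rw [h3, smul_smul, inv_mul_cancel₀ h4, one_smul])
    have hn2 : pt (F := F) (x + y) h0 hs hsl ≠ pt x hx0 hxs hxx := by
      intro h
      have h1 : Submodule.span F {x + y} = Submodule.span F {x} := congrArg Subtype.val h
      have h2 : x + y ∈ Submodule.span F {x} := h1 ▸ Submodule.mem_span_singleton_self _
      obtain ⟨c, hc⟩ := Submodule.mem_span_singleton.1 h2
      exact hne2 (c - 1) (by rw [sub_smul, one_smul, hc, add_sub_cancel_left])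
    refine ⟨pt (F := F) (x + y) h0 hs hsl, hn1, ?_⟩
    rw [typ_of_orth hn2, typ_of_orth hne]
    · exact hso.mono ((Submodule.span_singleton_le_iff_mem _ _).2
        (Submodule.mem_sup_right (Submodule.mem_span_singleton_self y))) le_sup_left
    · exact hso.mono ((Submodule.span_singleton_le_iff_mem _ _).2 hmem) le_sup_left
  · -- opposite
    obtain ⟨L, hL⟩ := hl (pt y hy0 hys hyy)
    have hyL : y ∈ L.1 := hL (Submodule.mem_span_singleton_self y)
    obtain ⟨r, hrL, hr⟩ : ∃ r ∈ L.1, r ∉ Submodule.span F {y} := by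
      by_contra h
      push Not at h
      have h1 : L.1 ≤ Submodule.span F {y} := h
      have h2 := Submodule.finrank_mono h1
      rw [L.2.2, finrank_span_singleton hy0] at h2
      omega
    have key : ∀ z ∈ L.1, z ∉ Submodule.span F {y} → Φ.L x z ≠ 0 →
        ∃ P'' : Φ.X 1, P'' ≠ pt y hy0 hys hyy ∧ typ Φ P''.1 (pt x hx0 hxs hxx).1 = typ Φ (pt y hy0 hys hyy).1 (pt x hx0 hxs hxx).1 := by
      intro z hz hzy hxz
      have hz0 : z ≠ 0 := fun h => hzy (h ▸ Submodule.zero_mem _)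
      refine ⟨pt z hz0 (L.2.1.1 z hz) (L.2.1.2 z hz z hz), ?_, ?_⟩
      · intro h
        have h1 : Submodule.span F {z} = Submodule.span F {y} := congrArg Subtype.val h
        exact hzy (h1 ▸ Submodule.mem_span_singleton_self z)
      · rw [typ_of_not_orth, typ_of_not_orth]
        · intro h
          exact hxy (h y (Submodule.mem_span_singleton_self y) x (Submodule.mem_span_singleton_self x))
        · intro h
          exact hxz (h z (Submodule.mem_span_singleton_self z) x (Submodule.mem_span_singleton_self x))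
    by_cases h1 : Φ.L x (y + r) = 0
    · refine key r hrL hr fun h2 => hxy ?_
      rw [map_add, h2, add_zero] at h1
      exact h1
    · refine key (y + r) (L.1.add_mem hyL hrL) (fun h2 => hr ?_) h1
      have h3 := (Submodule.span F {y}).sub_mem h2 (Submodule.mem_span_singleton_self y)
      rwa [add_sub_cancel_left] at h3

end Pts

section Act

variable {F V : Type*} [Field F] [AddCommGroup V] [Module F V] [FiniteDimensional F V] {H S : Type*} [Group H] [Group S]
  {Φ : Pol F V} {ρ : H →* (V ≃ₗ[F] V)} {π : H →* S}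

/-- `M` intertwines the action of `S` on the totally singular subspaces with the automorphism `a` -/
def Intw (h : Model Φ ρ π) {M : V ≃+ V} (hM : SemiAct Φ M) (a : MulAut S) : Prop :=
  ∀ (k : ℕ) (s : S) (U : Φ.X k), hM.perm k (letI := h.mulAction k; s • U) = (letI := h.mulAction k; a s • hM.perm k U)

theorem intw_of_induces (h : Model Φ ρ π) {M : V ≃+ V} (hM : SemiAct Φ M) {a : MulAut S} (ha : Induces ρ π M a) :
    Intw h hM a := by
  intro k s U
  obtain ⟨g, rfl⟩ := h.surj s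
  obtain ⟨g', hg', hm⟩ := ha g
  rw [← hg', h.smul_eq k g U, h.smul_eq k g' (hM.perm k U)]
  apply Subtype.ext
  show hM.sub (U.1.map (ρ g : V →ₗ[F] V)) = (hM.sub U.1).map (ρ g' : V →ₗ[F] V)
  ext v
  constructor
  · rintro ⟨_, ⟨x, hx, rfl⟩, rfl⟩
    exact ⟨M x, ⟨x, hx, rfl⟩, hm x⟩
  · rintro ⟨_, ⟨x, hx, rfl⟩, rfl⟩
    exact ⟨ρ g x, ⟨x, hx, rfl⟩, (hm x).symm⟩

theorem Intw.comp {h : Model Φ ρ π} {M N : V ≃+ V} {hM : SemiAct Φ M} {hN : SemiAct Φ N} {a b : MulAut S}
    (ha : Intw h hM a) (hb : Intw h hN b) : Intw h (SemiAct.comp hM hN) (a * b) := by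
  intro k s U
  rw [perm_comp hM hN, perm_comp hM hN, hb k s U, ha k (b s)]
  rfl

theorem Intw.symm {h : Model Φ ρ π} {M : V ≃+ V} {hM : SemiAct Φ M} {a : MulAut S}
    (ha : Intw h hM a) : Intw h hM.symm a⁻¹ := by
  intro k s U
  rw [perm_symm hM, perm_symm hM, Equiv.symm_apply_eq, ha k (a⁻¹ s)]
  rw [Equiv.apply_symm_apply, MulAut.apply_inv_self]

omit [FiniteDimensional F V] in
theorem semi_rho (h : Acts Φ ρ) (g : H) : SemiAct Φ (ρ g : V ≃+ V) := by
  refine ⟨⟨RingEquiv.refl F, fun a v => map_smul (ρ g) a v⟩, fun v => ⟨fun h1 => ?_, fun h1 => h.sing g v h1⟩,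
    fun x y => ⟨fun h1 => ?_, fun h1 => h.orth g x y h1⟩⟩
  · have h2 := h.sing g⁻¹ _ h1
    have h3 : ρ g⁻¹ (ρ g v) = v := by
      rw [map_inv]
      exact (ρ g).symm_apply_apply v
    rwa [show ((ρ g : V ≃+ V) v) = ρ g v from rfl, h3] at h2
  · have h2 := h.orth g⁻¹ _ _ h1
    have h3 : ∀ v, ρ g⁻¹ (ρ g v) = v := by
      intro v
      rw [map_inv]
      exact (ρ g).symm_apply_apply v
    rwa [show ((ρ g : V ≃+ V) x) = ρ g x from rfl, show ((ρ g : V ≃+ V) y) = ρ g y from rfl, h3, h3] at h2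

theorem intw_rho (h : Model Φ ρ π) (g : H) : Intw h (semi_rho h.toActs g) (MulAut.conj (π g)) := by
  refine intw_of_induces h _ fun g0 => ⟨g * g0 * g⁻¹, by simp, fun v => ?_⟩
  show ρ (g * g0 * g⁻¹) (ρ g v) = ρ g (ρ g0 v)
  rw [map_mul, map_mul, map_inv]
  show ρ g (ρ g0 ((ρ g)⁻¹ (ρ g v))) = _
  congr 2
  exact (ρ g).symm_apply_apply v

/-- all automorphisms of `S` are induced by semisimilarities, `S` has the pair property on the points and there are no
isolated pairs of points -/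
structure Full (h : Model Φ ρ π) : Prop where
  aut : ∀ a : MulAut S, ∃ M : V ≃+ V, SemiAct Φ M ∧ Induces ρ π M a
  pair : ∀ U U2 W W2 : Φ.X 1, typ Φ U.1 U2.1 = typ Φ W.1 W2.1 →
    ∃ g : H, U.1.map (ρ g : V →ₗ[F] V) = W.1 ∧ U2.1.map (ρ g : V →ₗ[F] V) = W2.1
  third : Third Φ

/-- **a semisimilarity centralizing `S` fixes all points** -/
theorem Full.fix_one {h : Model Φ ρ π} (I : Full h) {M : V ≃+ V} {hM : SemiAct Φ M} (hi : Intw h hM 1) (P : Φ.X 1) :
    hM.perm 1 P = P := by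
  by_contra hne
  obtain ⟨P'', h1, h2⟩ := I.third P (hM.perm 1 P) hne
  obtain ⟨g, hg1, hg2⟩ := I.pair (hM.perm 1 P) P P'' P h2.symm
  apply h1
  have h3 : (letI := h.mulAction 1; π g • P) = P := (h.smul_eq 1 g P).trans (Subtype.ext hg2)
  have h4 := hi 1 (π g) P
  rw [h3] at h4
  have h5 : (letI := h.mulAction 1; (1 : MulAut S) (π g) • hM.perm 1 P) = P'' :=
    (h.smul_eq 1 g (hM.perm 1 P)).trans (Subtype.ext hg1)
  exact (h4.trans h5).symm

theorem Full.fix {h : Model Φ ρ π} (I : Full h) {M : V ≃+ V} {hM : SemiAct Φ M} (hi : Intw h hM 1) (k : ℕ) (U : Φ.X k) :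
    hM.perm k U = U :=
  Subtype.ext (sub_eq_of_points hM (I.fix_one hi) U.2.1)

/-- uniqueness -/
theorem Full.uniq {h : Model Φ ρ π} (I : Full h) {M N : V ≃+ V} {hM : SemiAct Φ M} {hN : SemiAct Φ N} {a : MulAut S}
    (ha : Intw h hM a) (hb : Intw h hN a) (k : ℕ) (U : Φ.X k) : hM.perm k U = hN.perm k U := by
  have h1 : Intw h (SemiAct.comp hN.symm hM) 1 := by
    have h2 := hb.symm.comp ha
    rwa [inv_mul_cancel] at h2
  have h2 := I.fix h1 k U
  rw [perm_comp hN.symm hM, perm_symm hN, Equiv.symm_apply_eq] at h2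
  exact h2

/-- the semisimilarity of an automorphism -/
noncomputable def Full.M {h : Model Φ ρ π} (I : Full h) (a : MulAut S) : V ≃+ V := (I.aut a).choose

omit [FiniteDimensional F V] in
theorem Full.semi {h : Model Φ ρ π} (I : Full h) (a : MulAut S) : SemiAct Φ (I.M a) := (I.aut a).choose_spec.1

theorem Full.intw {h : Model Φ ρ π} (I : Full h) (a : MulAut S) : Intw h (I.semi a) a :=
  intw_of_induces h _ (I.aut a).choose_spec.2

/-- **the action of the group of automorphisms** -/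
@[reducible] noncomputable def Full.mulAction {h : Model Φ ρ π} (I : Full h) (k : ℕ) : MulAction (MulAut S) (Φ.X k) where
  smul a U := (I.semi a).perm k U
  one_smul U := I.fix (I.intw 1) k U
  mul_smul a b U := by
    show (I.semi (a * b)).perm k U = (I.semi a).perm k ((I.semi b).perm k U)
    rw [← perm_comp (I.semi a) (I.semi b)]
    exact I.uniq (I.intw (a * b)) ((I.intw a).comp (I.intw b)) k U

theorem Full.smul_def {h : Model Φ ρ π} (I : Full h) (k : ℕ) (a : MulAut S) (U : Φ.X k) :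
    (letI := I.mulAction k; a • U) = (I.semi a).perm k U := rfl

theorem Full.smul_val {h : Model Φ ρ π} (I : Full h) (k : ℕ) (a : MulAut S) (U : Φ.X k) :
    (letI := I.mulAction k; a • U).1 = (I.semi a).sub U.1 := rfl

/-- it extends the action of `S` -/
theorem Full.conj_smul {h : Model Φ ρ π} (I : Full h) (k : ℕ) (s : S) (U : Φ.X k) :
    (letI := I.mulAction k; MulAut.conj s • U) = (letI := h.mulAction k; s • U) := by
  obtain ⟨g, rfl⟩ := h.surj s
  rw [I.smul_def, I.uniq (I.intw _) (intw_rho h g) k U, h.smul_eq k g U]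
  rfl

theorem Full.typ_smul {h : Model Φ ρ π} (I : Full h) (k l : ℕ) (a : MulAut S) (U : Φ.X k) (W : Φ.X l) :
    typ Φ (letI := I.mulAction k; a • U).1 (letI := I.mulAction l; a • W).1 = typ Φ U.1 W.1 := by
  rw [I.smul_val, I.smul_val, typ_sub]

theorem Full.le_smul {h : Model Φ ρ π} (I : Full h) (k l : ℕ) (a : MulAut S) (U : Φ.X k) (W : Φ.X l) :
    (letI := I.mulAction k; a • U).1 ≤ (letI := I.mulAction l; a • W).1 ↔ U.1 ≤ W.1 := by
  rw [I.smul_val, I.smul_val, sub_mono]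

/-- **the automorphisms preserve the `S`-orbitals** -/
theorem Full.orb {h : Model Φ ρ π} (I : Full h) {k l : ℕ}
    (hp : ∀ (U : Φ.X k) (U2 : Φ.X l) (W : Φ.X k) (W2 : Φ.X l), typ Φ U.1 U2.1 = typ Φ W.1 W2.1 →
      ∃ g : H, U.1.map (ρ g : V →ₗ[F] V) = W.1 ∧ U2.1.map (ρ g : V →ₗ[F] V) = W2.1)
    (a : MulAut S) (U : Φ.X k) (W : Φ.X l) :
    ∃ s : S, (letI := I.mulAction k; MulAut.conj s • U) = (letI := I.mulAction k; a • U) ∧
      (letI := I.mulAction l; MulAut.conj s • W) = (letI := I.mulAction l; a • W) := by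
  obtain ⟨g, hg1, hg2⟩ := hp U W _ _ (I.typ_smul k l a U W).symm
  exact ⟨π g, ((I.conj_smul k (π g) U).trans (h.smul_eq k g U)).trans (Subtype.ext hg1),
    ((I.conj_smul l (π g) W).trans (h.smul_eq l g W)).trans (Subtype.ext hg2)⟩

end Act

end Cfsg.Agent.H215.CY
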